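import Cfsg.Agent.H42.Chain
import Mathlib.GroupTheory.Focal

/-!
# Control of transfer and of strong fusion by a conjugacy functor: local-to-global

* `exists_conj_sylow_in`: conjugacy of the Sylow `p`-subgroups of a subgroup `H`;
* `transfer_of_controls`, `fusion_of_controls`: control does not depend on the Sylow `p`-subgroup;
* `controlsTransfer_of_wellPlaced` (S1962), `controlsStrongFusion_of_wellPlaced` (S1961).
-/

set_option autoImplicit false

namespace Cfsg.Agent.H42.Control

open Subgroup Cfsg.Agent.Lib.GoldschmidtFusion Cfsg.Agent.H42.Tower Cfsg.Agent.H42.Chain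
open scoped commutatorElement

variable {G : Type*} [Group G]

section Basic

variable [Finite G] {p : ℕ} [hp : Fact p.Prime]

/-- Two Sylow `p`-subgroups of `H` are conjugate in `H`. -/
theorem exists_conj_sylow_in {H T T' : Subgroup G} (hTH : T ≤ H) (hT'H : T' ≤ H)
    (hT : IsPGroup p T) (hT' : IsPGroup p T') (hTi : ¬ p ∣ T.relIndex H) (hTi' : ¬ p ∣ T'.relIndex H) :
    ∃ h ∈ H, T.map (MulAut.conj h).toMonoidHom = T' := by
  obtain ⟨h, hh, hle⟩ := exists_conj_le_in (p := p) hT' hTi' hTH hT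
  refine ⟨h, hh, ?_⟩
  apply eq_of_le_of_not_dvd (p := p) hle hT'H hT'
  have h1 : H.map (MulAut.conj h).toMonoidHom = H := by
    have : h ∈ normalizer (H : Set G) := le_normalizer hh
    exact mem_normalizer_iff_map_conj.1 this
  have h2 := relIndex_map_map_of_injective (f := (MulAut.conj h).toMonoidHom) T H
    (MulAut.conj h).injective
  have h3 : (T.map (MulAut.conj h).toMonoidHom).relIndex H = T.relIndex H := by
    conv_lhs => rw [← h1]
    exact h2
  rw [h3]
  exact hTi

omit [Finite G] in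
theorem map_conj_eq_of_mem {H : Subgroup G} {h : G} (hh : h ∈ H) :
    H.map (MulAut.conj h).toMonoidHom = H :=
  mem_normalizer_iff_map_conj.1 (le_normalizer hh)

/-- The focal subgroup theorem in the form used here. -/
theorem inf_commutator_le (S : Sylow p G) (X : Subgroup G)
    (h : ∀ a ∈ (S : Subgroup G), ∀ g : G, g⁻¹ * a * g ∈ (S : Subgroup G) → a⁻¹ * (g⁻¹ * a * g) ∈ X) :
    (S : Subgroup G) ⊓ commutator G ≤ X := by
  rw [inf_comm, Subgroup.commutator_inf_eq_focalSubgroup, Subgroup.focalSubgroup_def,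
    Subgroup.closure_le]
  rintro _ ⟨hmem, x, hx, u, rfl⟩
  have h1 : (u⁻¹)⁻¹ * x * u⁻¹ ∈ (S : Subgroup G) := by
    have h2 : (u⁻¹)⁻¹ * x * u⁻¹ = (⁅x, u⁆)⁻¹ * x := by
      rw [commutatorElement_def]; group
    rw [h2]
    exact mul_mem (inv_mem hmem) hx
  have h2 := h x hx u⁻¹ h1
  have h3 : (x⁻¹ * ((u⁻¹)⁻¹ * x * u⁻¹)) ∈ X := h2
  -- `⁅x, u⁆ = x (u x⁻¹ u⁻¹)`; use the element `x⁻¹`
  have h4 := h x⁻¹ (inv_mem hx) u⁻¹ (by
    have : (u⁻¹)⁻¹ * x⁻¹ * u⁻¹ = ((u⁻¹)⁻¹ * x * u⁻¹)⁻¹ := by group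
    rw [this]; exact inv_mem h1)
  have h5 : (x⁻¹)⁻¹ * ((u⁻¹)⁻¹ * x⁻¹ * u⁻¹) = ⁅x, u⁆ := by
    rw [commutatorElement_def]; group
  rw [h5] at h4
  exact h4

end Basic

section Functor

variable [Finite G] {p : ℕ} [hp : Fact p.Prime] {W : Subgroup G → Subgroup G}

omit [Finite G] hp in
/-- Conjugating the transfer condition. -/
theorem transfer_conj {H T : Subgroup G} (hW : IsConjugacyFunctor p W) (hT : IsPGroup p T)
    {h : G} (hh : h ∈ H)
    (hc : T ⊓ ⁅H, H⁆ = T ⊓ ⁅H ⊓ normalizer ((W T : Subgroup G) : Set G),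
      H ⊓ normalizer ((W T : Subgroup G) : Set G)⁆) :
    T.map (MulAut.conj h).toMonoidHom ⊓ ⁅H, H⁆ = T.map (MulAut.conj h).toMonoidHom ⊓
      ⁅H ⊓ normalizer ((W (T.map (MulAut.conj h).toMonoidHom) : Subgroup G) : Set G),
        H ⊓ normalizer ((W (T.map (MulAut.conj h).toMonoidHom) : Subgroup G) : Set G)⁆ := by
  have hH := map_conj_eq_of_mem hh
  have h1 := congrArg (fun K : Subgroup G => K.map (MulAut.conj h).toMonoidHom) hc
  simp only [Subgroup.map_inf _ _ (MulAut.conj h).toMonoidHom (MulAut.conj h).injective,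
    Subgroup.map_commutator, hH, map_conj_normalizer] at h1
  rw [W_conj hW hT]
  exact h1

theorem transfer_of_controls {H T : Subgroup G} (hW : IsConjugacyFunctor p W)
    (hc : ControlsTransferIn p W H) (hTH : T ≤ H) (hT : IsPGroup p T) (hTi : ¬ p ∣ T.relIndex H) :
    T ⊓ ⁅H, H⁆ = T ⊓ ⁅H ⊓ normalizer ((W T : Subgroup G) : Set G),
      H ⊓ normalizer ((W T : Subgroup G) : Set G)⁆ := by
  obtain ⟨T₀, hT₀H, hT₀, hT₀i, h0⟩ := hc
  obtain ⟨h, hh, rfl⟩ := exists_conj_sylow_in hT₀H hTH hT₀ hT hT₀i hTi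
  exact transfer_conj hW hT₀ hh h0

theorem fusion_of_controls {H T : Subgroup G} (hW : IsConjugacyFunctor p W)
    (hc : ControlsStrongFusionIn p W H) (hTH : T ≤ H) (hT : IsPGroup p T) (hTi : ¬ p ∣ T.relIndex H) :
    ∀ (A : Set G) (h : G), h ∈ H → A ⊆ T → (fun a => h * a * h⁻¹) '' A ⊆ T →
      ∃ x ∈ H ⊓ normalizer ((W T : Subgroup G) : Set G), ∀ a ∈ A, x * a * x⁻¹ = h * a * h⁻¹ := by
  obtain ⟨T₀, hT₀H, hT₀, hT₀i, h0⟩ := hc
  obtain ⟨k, hk, rfl⟩ := exists_conj_sylow_in hT₀H hTH hT₀ hT hT₀i hTi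
  intro A h hh hA hAh
  obtain ⟨x, hx, hxa⟩ := h0 ((fun a => k⁻¹ * a * k) '' A) (k⁻¹ * h * k)
    (H.mul_mem (H.mul_mem (H.inv_mem hk) hh) hk) (by
      rintro _ ⟨a, ha, rfl⟩
      exact mem_map_conj.1 (hA ha)) (by
      rintro _ ⟨_, ⟨a, ha, rfl⟩, rfl⟩
      have h1 := mem_map_conj.1 (hAh ⟨a, ha, rfl⟩)
      have h2 : k⁻¹ * h * k * (k⁻¹ * a * k) * (k⁻¹ * h * k)⁻¹ = k⁻¹ * (h * a * h⁻¹) * k := by group
      simp only [h2]
      exact h1)
  refine ⟨k * x * k⁻¹, ?_, ?_⟩
  · refine ⟨H.mul_mem (H.mul_mem hk hx.1) (H.inv_mem hk), ?_⟩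
    rw [W_conj hW hT₀, SetLike.mem_coe, ← map_conj_normalizer]
    exact conj_mem_map_conj hx.2 k
  · intro a ha
    have h1 := hxa _ ⟨a, ha, rfl⟩
    have h2 : k * x * k⁻¹ * a * (k * x * k⁻¹)⁻¹ = k * (x * (k⁻¹ * a * k) * x⁻¹) * k⁻¹ := by group
    rw [h2, h1]
    group

/-- The inductive step: control of transfer along the tower. -/
theorem transfer_tower (S : Sylow p G) (hW : IsConjugacyFunctor p W)
    (hloc : ∀ T : Subgroup G, T ≠ ⊥ → IsWellPlaced p W (S : Subgroup G) T →
      ControlsTransferIn p W (normalizer (T : Set G))) :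
    ∀ (n : ℕ) (T : Subgroup G), T ≠ ⊥ → IsWellPlaced p W (S : Subgroup G) T →
      Nat.card G - Nat.card ↥((S : Subgroup G) ⊓ normalizer (T : Set G)) ≤ n →
      (S : Subgroup G) ⊓ normalizer (T : Set G) ⊓ ⁅normalizer (T : Set G), normalizer (T : Set G)⁆ ≤
        ⁅normalizer ((W (S : Subgroup G) : Subgroup G) : Set G),
          normalizer ((W (S : Subgroup G) : Subgroup G) : Set G)⁆ := by
  have hS : IsPGroup p (S : Subgroup G) := S.isPGroup'
  intro n
  induction n with
  | zero =>
    intro T hT hTw hn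
    have h1 : (S : Subgroup G) ⊓ normalizer (T : Set G) = ⊤ := by
      rw [← Subgroup.card_eq_iff_eq_top]
      have := Subgroup.card_le_card_group ((S : Subgroup G) ⊓ normalizer (T : Set G))
      omega
    have h2 : (S : Subgroup G) = ⊤ := top_le_iff.1 (h1 ▸ inf_le_left)
    have h3 : normalizer ((W (S : Subgroup G) : Subgroup G) : Set G) = ⊤ := by
      rw [eq_top_iff]
      conv_lhs => rw [← h2]
      exact le_normalizer_W hW hS
    rw [h3]
    exact inf_le_right.trans (commutator_mono le_top le_top)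
  | succ n ih =>
    intro T hT hTw hn
    set R := (S : Subgroup G) ⊓ normalizer (T : Set G) with hR
    have hRp : IsPGroup p R := hS.to_le inf_le_left
    have hc := transfer_of_controls hW (hloc T hT hTw) (T := R) inf_le_right hRp (hTw.2 0)
    have hT1 : W R ≠ ⊥ := by
      refine W_ne_bot hW hRp ?_
      intro h0
      apply hT
      rw [eq_bot_iff, ← h0]
      exact le_inf hTw.1 le_normalizer
    by_cases hRS : R = (S : Subgroup G)
    · rw [hc, hRS]
      exact inf_le_right.trans (commutator_mono inf_le_right inf_le_right)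
    · have hlt := lt_succ (p := p) hW hS hRS
      have hcard : Nat.card R < Nat.card ↥((S : Subgroup G) ⊓ normalizer ((W R : Subgroup G) : Set G)) := by
        refine lt_of_le_of_ne (Subgroup.card_le_of_le hlt.le) ?_
        intro heq
        exact hlt.ne (Subgroup.eq_of_le_of_card_ge hlt.le heq.ge)
      have h1 := ih (W R) hT1 (wellPlaced_succ hW hS hTw) (by
        have := Subgroup.card_le_card_group ((S : Subgroup G) ⊓ normalizer ((W R : Subgroup G) : Set G))
        omega)
      rw [hc]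
      refine le_trans ?_ h1
      exact inf_le_inf hlt.le (commutator_mono inf_le_right inf_le_right)

/-- **Local-to-global control of transfer through well-placed subgroups.** -/
theorem controlsTransfer_of_wellPlaced (S : Sylow p G) (hW : IsConjugacyFunctor p W)
    (hloc : ∀ T : Subgroup G, T ≠ ⊥ → IsWellPlaced p W (S : Subgroup G) T →
      ControlsTransferIn p W (normalizer (T : Set G))) :
    ControlsTransferIn p W (⊤ : Subgroup G) := by
  have hS : IsPGroup p (S : Subgroup G) := S.isPGroup'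
  refine ⟨S, le_top, hS, by rw [relIndex_top_right]; exact S.not_dvd_index, ?_⟩
  rw [top_inf_eq]
  refine le_antisymm ?_ (inf_le_inf_left _ (commutator_mono le_top le_top))
  refine le_inf inf_le_left ?_
  have htt : ⁅(⊤ : Subgroup G), (⊤ : Subgroup G)⁆ = commutator G := (commutator_def G).symm
  rw [htt]
  apply inf_commutator_le S
  intro a ha g hag
  -- the chain
  have hfam := chain_of_fullyNormalized S {T | IsWellPlaced p W (S : Subgroup G) T}
    (fun U hU => hU.1) (fun T hT => by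
      obtain ⟨g, hg⟩ := exists_wellPlaced S hW T hT
      exact ⟨_, hg, ⟨g, rfl⟩, hg.2 0⟩) _ (zpowers a) g (by rwa [zpowers_le]) (by
      rw [MonoidHom.map_zpowers, zpowers_le]
      simpa using hag) le_rfl
  have key : ∀ (A : Set G) (g : G), FChain {T | IsWellPlaced p W (S : Subgroup G) T} A g →
      ∀ a ∈ A, a⁻¹ * (g⁻¹ * a * g) ∈ ⁅normalizer ((W (S : Subgroup G) : Subgroup G) : Set G),
          normalizer ((W (S : Subgroup G) : Subgroup G) : Set G)⁆ := by
    intro A g h
    induction h with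
    | nil A => intro a _; simp
    | cons A T x g hT hx hA h ih =>
      intro a ha
      have h1 := ih (x⁻¹ * a * x) ⟨a, ha, rfl⟩
      have h2 : a⁻¹ * (x⁻¹ * a * x) ∈ ⁅normalizer ((W (S : Subgroup G) : Subgroup G) : Set G),
          normalizer ((W (S : Subgroup G) : Subgroup G) : Set G)⁆ := by
        by_cases hT0 : T = ⊥
        · have h3 : a = 1 := by
            have := hA ha
            rw [hT0] at this
            simpa using this
          rw [h3]; simp
        · refine transfer_tower S hW hloc _ T hT0 hT le_rfl ?_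
          have haT : a ∈ T := hA ha
          have haN : a ∈ normalizer (T : Set G) := le_normalizer haT
          have hconj : x⁻¹ * a * x ∈ T := by
            have := (mem_normalizer_iff.1 (inv_mem hx) a).1 haT
            simpa using this
          refine Subgroup.mem_inf.2 ⟨Subgroup.mem_inf.2 ⟨mul_mem (inv_mem (hT.1 haT)) (hT.1 hconj),
            mul_mem (inv_mem haN) (le_normalizer hconj)⟩, ?_⟩
          have h4 : a⁻¹ * (x⁻¹ * a * x) = ⁅a⁻¹, x⁻¹⁆ := by
            rw [commutatorElement_def]; group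
          rw [h4]
          exact commutator_mem_commutator (inv_mem haN) (inv_mem hx)
      have h3 : a⁻¹ * ((x * g)⁻¹ * a * (x * g)) =
          (a⁻¹ * (x⁻¹ * a * x)) * ((x⁻¹ * a * x)⁻¹ * (g⁻¹ * (x⁻¹ * a * x) * g)) := by group
      rw [h3]
      exact mul_mem h2 h1
  exact key _ _ hfam a (mem_zpowers a)

/-- The inductive step: control of strong fusion along the tower. -/
theorem fusion_tower (S : Sylow p G) (hW : IsConjugacyFunctor p W)
    (hloc : ∀ T : Subgroup G, T ≠ ⊥ → IsWellPlaced p W (S : Subgroup G) T →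
      ControlsStrongFusionIn p W (normalizer (T : Set G))) :
    ∀ (n : ℕ) (T : Subgroup G), T ≠ ⊥ → IsWellPlaced p W (S : Subgroup G) T →
      Nat.card G - Nat.card ↥((S : Subgroup G) ⊓ normalizer (T : Set G)) ≤ n →
      ∀ (A : Set G) (h : G), h ∈ normalizer (T : Set G) → A ⊆ (S : Subgroup G) ⊓ normalizer (T : Set G) →
        (fun a => h * a * h⁻¹) '' A ⊆ (S : Subgroup G) ⊓ normalizer (T : Set G) →
        ∃ x ∈ normalizer ((W (S : Subgroup G) : Subgroup G) : Set G),
          ∀ a ∈ A, x * a * x⁻¹ = h * a * h⁻¹ := by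
  have hS : IsPGroup p (S : Subgroup G) := S.isPGroup'
  intro n
  induction n with
  | zero =>
    intro T hT hTw hn A h hh hA hAh
    have h1 : (S : Subgroup G) ⊓ normalizer (T : Set G) = ⊤ := by
      rw [← Subgroup.card_eq_iff_eq_top]
      have := Subgroup.card_le_card_group ((S : Subgroup G) ⊓ normalizer (T : Set G))
      omega
    have h2 : (S : Subgroup G) = ⊤ := top_le_iff.1 (h1 ▸ inf_le_left)
    have h3 : normalizer ((W (S : Subgroup G) : Subgroup G) : Set G) = ⊤ := by
      rw [eq_top_iff]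
      conv_lhs => rw [← h2]
      exact le_normalizer_W hW hS
    rw [h3]
    exact ⟨h, mem_top h, fun a _ => rfl⟩
  | succ n ih =>
    intro T hT hTw hn A h hh hA hAh
    set R := (S : Subgroup G) ⊓ normalizer (T : Set G) with hR
    have hRp : IsPGroup p R := hS.to_le inf_le_left
    obtain ⟨x, hx, hxa⟩ := fusion_of_controls hW (hloc T hT hTw) (T := R) inf_le_right hRp (hTw.2 0)
      A h hh hA hAh
    have hT1 : W R ≠ ⊥ := by
      refine W_ne_bot hW hRp ?_
      intro h0
      apply hT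
      rw [eq_bot_iff, ← h0]
      exact le_inf hTw.1 le_normalizer
    by_cases hRS : R = (S : Subgroup G)
    · rw [← hRS]
      exact ⟨x, hx.2, hxa⟩
    · have hlt := lt_succ (p := p) hW hS hRS
      have hcard : Nat.card R < Nat.card ↥((S : Subgroup G) ⊓ normalizer ((W R : Subgroup G) : Set G)) := by
        refine lt_of_le_of_ne (Subgroup.card_le_of_le hlt.le) ?_
        intro heq
        exact hlt.ne (Subgroup.eq_of_le_of_card_ge hlt.le heq.ge)
      obtain ⟨y, hy, hya⟩ := ih (W R) hT1 (wellPlaced_succ hW hS hTw) (by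
        have := Subgroup.card_le_card_group ((S : Subgroup G) ⊓ normalizer ((W R : Subgroup G) : Set G))
        omega) A x hx.2 (fun a ha => hlt.le (hA ha)) (by
        rintro _ ⟨a, ha, rfl⟩
        simp only [hxa a ha]
        exact hlt.le (hAh ⟨a, ha, rfl⟩))
      exact ⟨y, hy, fun a ha => (hya a ha).trans (hxa a ha)⟩

/-- **Local-to-global control of strong fusion through well-placed subgroups.** -/
theorem controlsStrongFusion_of_wellPlaced (S : Sylow p G) (hW : IsConjugacyFunctor p W)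
    (hloc : ∀ T : Subgroup G, T ≠ ⊥ → IsWellPlaced p W (S : Subgroup G) T →
      ControlsStrongFusionIn p W (normalizer (T : Set G))) :
    ControlsStrongFusionIn p W (⊤ : Subgroup G) := by
  have hS : IsPGroup p (S : Subgroup G) := S.isPGroup'
  refine ⟨S, le_top, hS, by rw [relIndex_top_right]; exact S.not_dvd_index, ?_⟩
  intro A h _ hA hAh
  rw [top_inf_eq]
  have hfam := chain_of_fullyNormalized S {T | IsWellPlaced p W (S : Subgroup G) T}
    (fun U hU => hU.1) (fun T hT => by
      obtain ⟨g, hg⟩ := exists_wellPlaced S hW T hT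
      exact ⟨_, hg, ⟨g, rfl⟩, hg.2 0⟩) _ (Subgroup.closure A) h⁻¹ ((Subgroup.closure_le _).2 hA) (by
      rw [MonoidHom.map_closure, Subgroup.closure_le, inv_inv]
      rintro _ ⟨a, ha, rfl⟩
      exact hAh ⟨a, ha, rfl⟩) le_rfl
  have key : ∀ (A : Set G) (g : G), FChain {T | IsWellPlaced p W (S : Subgroup G) T} A g →
      ∃ x ∈ normalizer ((W (S : Subgroup G) : Subgroup G) : Set G),
        ∀ a ∈ A, x * a * x⁻¹ = g⁻¹ * a * g := by
    intro A g h
    induction h with
    | nil A => exact ⟨1, one_mem _, fun a _ => by simp⟩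
    | cons A T x g hT hx hA h ih =>
      obtain ⟨y, hy, hya⟩ := ih
      obtain ⟨z, hz, hza⟩ : ∃ z ∈ normalizer ((W (S : Subgroup G) : Subgroup G) : Set G),
          ∀ a ∈ A, z * a * z⁻¹ = x⁻¹ * a * x := by
        by_cases hT0 : T = ⊥
        · refine ⟨1, one_mem _, fun a ha => ?_⟩
          have h3 : a = 1 := by
            have := hA ha
            rw [hT0] at this
            simpa using this
          rw [h3]; simp
        · have hconj : ∀ a ∈ A, x⁻¹ * a * (x⁻¹)⁻¹ ∈ T := fun a ha =>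
            (mem_normalizer_iff.1 (inv_mem hx) a).1 (hA ha)
          obtain ⟨z, hz, hza⟩ := fusion_tower S hW hloc _ T hT0 hT le_rfl A x⁻¹ (inv_mem hx)
            (fun a ha => ⟨hT.1 (hA ha), le_normalizer (hA ha)⟩) (by
              rintro _ ⟨a, ha, rfl⟩
              exact ⟨hT.1 (hconj a ha), le_normalizer (hconj a ha)⟩)
          refine ⟨z, hz, fun a ha => ?_⟩
          rw [hza a ha, inv_inv]
      refine ⟨y * z, mul_mem hy hz, fun a ha => ?_⟩
      have h1 := hya _ ⟨a, ha, rfl⟩
      have h2 : y * z * a * (y * z)⁻¹ = y * (z * a * z⁻¹) * y⁻¹ := by group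
      rw [h2, hza a ha]
      simp only at h1
      rw [h1]
      group
  obtain ⟨x, hx, hxa⟩ := key _ _ hfam
  refine ⟨x, hx, fun a ha => ?_⟩
  rw [hxa a (Subgroup.subset_closure ha), inv_inv]

/-- The characterisation of control of strong fusion by factorisation. -/
theorem controlsStrongFusion_iff (S : Sylow p G) (hW : IsConjugacyFunctor p W) :
    ControlsStrongFusionIn p W ⊤ ↔ ∀ (T : Subgroup G) (g : G), T ≤ (S : Subgroup G) →
      T.map (MulAut.conj g).toMonoidHom ≤ (S : Subgroup G) →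
      ∃ n ∈ normalizer ((W (S : Subgroup G) : Subgroup G) : Set G),
        ∃ c ∈ centralizer (T : Set G), g = n * c := by
  have hS : IsPGroup p (S : Subgroup G) := S.isPGroup'
  have hSi : ¬ p ∣ (S : Subgroup G).relIndex ⊤ := by rw [relIndex_top_right]; exact S.not_dvd_index
  constructor
  · intro hc T g hT hTg
    obtain ⟨x, hx, hxa⟩ := fusion_of_controls hW hc (T := (S : Subgroup G)) le_top hS hSi
      (T : Set G) g (mem_top g) hT (by
        rintro _ ⟨a, ha, rfl⟩
        exact hTg ⟨a, ha, rfl⟩)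
    rw [top_inf_eq] at hx
    refine ⟨x, hx, x⁻¹ * g, ?_, by group⟩
    rw [mem_centralizer_iff]
    intro a ha
    have h1 := hxa a ha
    have h2 : a = x⁻¹ * g * a * (x⁻¹ * g)⁻¹ := by
      have : x⁻¹ * g * a * (x⁻¹ * g)⁻¹ = x⁻¹ * (g * a * g⁻¹) * x := by group
      rw [this, ← h1]; group
    calc a * (x⁻¹ * g) = (x⁻¹ * g * a * (x⁻¹ * g)⁻¹) * (x⁻¹ * g) := by rw [← h2]
      _ = x⁻¹ * g * a := by group
  · intro h
    refine ⟨S, le_top, hS, hSi, ?_⟩
    intro A g _ hA hAg
    obtain ⟨n, hn, c, hc, rfl⟩ := h (Subgroup.closure A) g ((Subgroup.closure_le _).2 hA) (by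
      rw [MonoidHom.map_closure, Subgroup.closure_le]
      rintro _ ⟨a, ha, rfl⟩
      exact hAg ⟨a, ha, rfl⟩)
    rw [top_inf_eq]
    refine ⟨n, hn, fun a ha => ?_⟩
    have h1 := mem_centralizer_iff.1 hc a (Subgroup.subset_closure ha)
    have h2 : n * c * a * (n * c)⁻¹ = n * (c * a) * c⁻¹ * n⁻¹ := by group
    rw [h2, ← h1]
    group

end Functor

end Cfsg.Agent.H42.Control
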