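import Cfsg.Agent.H42.Control

/-!
# The Alperin–Goldschmidt fusion theorem with prescribed representatives

`gen_of_conj_rep`: adaptation of `Lib.GoldschmidtFusion.gen_of_conj`.
-/

set_option autoImplicit false

namespace Cfsg.Agent.H42.RepFusion

open Subgroup Cfsg.Agent.Lib.GoldschmidtFusion

variable {G : Type*} [Group G] [Finite G] {p : ℕ} [hp : Fact p.Prime]

/-- **Alperin–Goldschmidt fusion theorem** (centric form) with prescribed representatives of the conjugacy classes
of subgroups of `P`: it suffices that `F` holds for `P` and for the centric representatives `X < P`. -/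
theorem gen_of_conj_rep (P : Sylow p G) (F R : Subgroup G → Prop) (hP : F P)
    (hrep : ∀ A : Subgroup G, A ≤ P → ∃ k : G, A.map (MulAut.conj k).toMonoidHom ≤ P ∧
      R (A.map (MulAut.conj k).toMonoidHom))
    (hRi : ∀ X : Subgroup G, X ≤ P → R X →
      ¬ p ∣ ((P : Subgroup G) ⊓ normalizer (X : Set G)).relIndex (normalizer (X : Set G)))
    (hF : ∀ X : Subgroup G, X < P → R X →
      centralizer (X : Set G) ⊓ P ≤ X →
      (∃ g ∈ normalizer (X : Set G), Nat.Coprime (orderOf g) p ∧ g ∉ centralizer (X : Set G)) → F X)
    {A : Subgroup G} (hA : A ≤ P) {g : G} (hg : A.map (MulAut.conj g).toMonoidHom ≤ P) :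
    Gen (P : Subgroup G) F A g := by
  -- downward induction on the order of `A`
  have key : ∀ k : ℕ, ∀ A : Subgroup G, A ≤ P → Nat.card P ≤ Nat.card A + k → ∀ g : G,
      A.map (MulAut.conj g).toMonoidHom ≤ P → Gen (P : Subgroup G) F A g := by
    intro k
    induction k with
    | zero =>
      intro A hA hk g hg
      have hAP : A = P := Subgroup.eq_of_le_of_card_ge hA (by simpa using hk)
      rw [hAP] at hg
      have hgN : g ∈ normalizer ((P : Subgroup G) : Set G) :=
        mem_normalizer_iff_map_conj.2 (map_conj_le_of_le_normalizer hg)
      exact Gen.base le_rfl hP hA hgN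
    | succ k ih =>
      intro A hA hk g hg
      by_cases hAP : A = P
      · rw [hAP] at hg
        have hgN : g ∈ normalizer ((P : Subgroup G) : Set G) :=
          mem_normalizer_iff_map_conj.2 (map_conj_le_of_le_normalizer hg)
        exact Gen.base le_rfl hP hA hgN
      have hlt : A < P := lt_of_le_of_ne hA hAP
      -- everything larger than `A` is fine
      have big : ∀ D : Subgroup G, D ≤ P → Nat.card A < Nat.card D → ∀ g : G,
          D.map (MulAut.conj g).toMonoidHom ≤ P → Gen (P : Subgroup G) F D g := by
        intro D hD hc g hg
        exact ih D hD (by omega) g hg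
      -- any conjugate of `A` in `P`
      have ext : ∀ A' : Subgroup G, A' ≤ P → Nat.card A' = Nat.card A → ∀ (B : Subgroup G) (k : G),
          A'.map (MulAut.conj k).toMonoidHom = B →
          ¬ p ∣ ((P : Subgroup G) ⊓ normalizer (B : Set G)).relIndex (normalizer (B : Set G)) →
          ∃ h : G, A'.map (MulAut.conj h).toMonoidHom = B ∧ Gen (P : Subgroup G) F A' h := by
        intro A' hA' hcard B k hk hB
        obtain ⟨h, hh, hle⟩ := exists_extension P hk hB
        refine ⟨h, hh, ?_⟩
        have hlt' : A' < P := by
          refine lt_of_le_of_ne hA' ?_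
          rintro rfl
          exact hAP (Subgroup.eq_of_le_of_card_ge hA hcard.le)
        have h1 : A' < (P : Subgroup G) ⊓ normalizer (A' : Set G) :=
          lt_inf_normalizer P.isPGroup' hlt'
        have h2 : Nat.card A < Nat.card ((P : Subgroup G) ⊓ normalizer (A' : Set G) : Subgroup G) := by
          rw [← hcard]
          exact Set.Finite.card_lt_card (Set.toFinite _) h1
        exact (big _ inf_le_left h2 h (hle.trans inf_le_left)).mono h1.le
      obtain ⟨k₁, hB, hBR⟩ := hrep A hA
      have hBi := hRi _ hB hBR
      set B := A.map (MulAut.conj k₁).toMonoidHom with hBdef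
      obtain ⟨h₁, hh₁, hgen₁⟩ := ext A hA rfl B k₁ rfl hBi
      obtain ⟨h₂, hh₂, hgen₂⟩ := ext (A.map (MulAut.conj g).toMonoidHom) hg (card_map_conj A g) B
        (k₁ * g⁻¹) (by rw [map_conj_map_conj]; simp [hBdef]) hBi
      set n := h₂ * g * h₁⁻¹ with hn
      have hnN : n ∈ normalizer (B : Set G) := by
        rw [mem_normalizer_iff_map_conj]
        nth_rewrite 1 [← hh₁]
        rw [map_conj_map_conj, hn]
        have : h₂ * g * h₁⁻¹ * h₁ = h₂ * g := by group
        rw [this, ← map_conj_map_conj, hh₂]
      have hcardB : Nat.card B = Nat.card A := card_map_conj A k₁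
      -- main claim
      have main : Gen (P : Subgroup G) F B n := by
        by_cases hcent : centralizer (B : Set G) ⊓ P ≤ B
        · by_cases hcop : ∃ g ∈ normalizer (B : Set G), Nat.Coprime (orderOf g) p ∧
              g ∉ centralizer (B : Set G)
          · have hBlt : B < P := by
              refine lt_of_le_of_ne hB ?_
              intro h
              apply hAP
              apply Subgroup.eq_of_le_of_card_ge hA
              rw [← hcardB, h]
            exact Gen.base hB (hF B hBlt hBR hcent hcop) le_rfl hnN
          · push Not at hcop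
            obtain ⟨s, hs, c, hc, hsc⟩ := exists_mul_of_pGroup_automizer P hBi hcop hnN
            rw [hsc]
            refine Gen.mul (Gen.cent hB hc) ?_
            rw [map_conj_of_mem_centralizer hc]
            exact Gen.base le_rfl hP hB (le_normalizer hs.1)
        · -- `B` is not centric
          set T := centralizer (B : Set G) ⊓ (P : Subgroup G) with hT
          have hTC : ¬ p ∣ T.relIndex (centralizer (B : Set G)) := not_dvd_relIndex_centralizer P hBi
          have hTp : IsPGroup p T := P.isPGroup'.to_le inf_le_right
          have hle : T.map (MulAut.conj n).toMonoidHom ≤ centralizer (B : Set G) := by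
            rintro _ ⟨t, ht, rfl⟩
            have h1 : t ∈ centralizer (B : Set G) := ht.1
            have h2 : n * t * n⁻¹ ∈ centralizer (B : Set G) := by
              rw [← mem_normalizer_iff_map_conj.1 hnN, mem_centralizer_map_conj]
              simpa [mul_assoc] using h1
            simpa using h2
          obtain ⟨c, hc, hcT⟩ := exists_conj_le_in (p := p) hTp hTC hle (hTp.map _)
          rw [map_conj_map_conj] at hcT
          have hcn : c * n ∈ normalizer (B : Set G) := mul_mem (centralizer_le_normalizer _ hc) hnN
          have hD : (B ⊔ T).map (MulAut.conj (c * n)).toMonoidHom ≤ P := by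
            rw [Subgroup.map_sup, mem_normalizer_iff_map_conj.1 hcn]
            exact sup_le hB (hcT.trans inf_le_right)
          have hDcard : Nat.card A < Nat.card (B ⊔ T : Subgroup G) := by
            rw [← hcardB]
            refine Set.Finite.card_lt_card (Set.toFinite _) ?_
            have : B < B ⊔ T := left_lt_sup.2 hcent
            exact this
          have h1 := (big (B ⊔ T) (sup_le hB inf_le_right) hDcard (c * n) hD).mono
            (le_sup_left : B ≤ B ⊔ T)
          have h2 : n = c⁻¹ * (c * n) := by group
          rw [h2]
          refine Gen.mul h1 ?_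
          rw [mem_normalizer_iff_map_conj.1 hcn]
          exact Gen.cent hB (inv_mem hc)
      have hfin : g = h₂⁻¹ * (n * h₁) := by rw [hn]; group
      rw [hfin]
      refine Gen.mul (Gen.mul hgen₁ (by rw [hh₁]; exact main)) ?_
      have h3 : A.map (MulAut.conj (n * h₁)).toMonoidHom = B := by
        rw [← map_conj_map_conj, hh₁]
        exact mem_normalizer_iff_map_conj.1 hnN
      rw [h3, ← hh₂]
      exact hgen₂.symm
  exact key (Nat.card P) A hA (Nat.le_add_left _ _) g hg

end Cfsg.Agent.H42.RepFusion
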